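import Cfsg.Agent.Lib.CosetEnum.TC
set_option autoImplicit false
set_option maxRecDepth 100000
namespace T54.Ly1
open H54 (Tr force band)
open H18.TC
noncomputable def F_0 : Tr := (.node (nat_lit 0) (.leaf (nat_lit 0xd3aa19)) (.leaf (nat_lit 0xbde302)))
noncomputable def T : Tr := (.leaf (nat_lit 0xc0000da0f90000001080bb00c00009c0e80000000c907d00c00005e0aa00000008b03f00c00001f06c00000004d02e))
noncomputable def J : Tr := (.leaf (nat_lit 0x400400200000040040010010000000001001000400400000000040040010010000000000000))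
noncomputable def F : Tr := F_0
noncomputable def row (u : ℕ) : ℕ := Nat.land (Nat.shiftRight (force (Nat.shiftRight u (nat_lit 3)) T.get) (Nat.mul (Nat.land u (nat_lit 7)) (nat_lit 48))) (nat_lit 0xffffffffffff)
noncomputable def jrow (u : ℕ) : ℕ := Nat.land (Nat.shiftRight (force (Nat.shiftRight u (nat_lit 3)) J.get) (Nat.mul (Nat.land u (nat_lit 7)) (nat_lit 39))) (nat_lit 0x7fffffffff)
noncomputable def fget (k fx : ℕ) : ℕ := F.get (Nat.add k fx)
noncomputable def wt0 : LT := (.node (nat_lit 0) (.leaf 1 0 [nat_lit 12, nat_lit 12, nat_lit 12, nat_lit 12, nat_lit 12, nat_lit 12, nat_lit 12])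
(.leaf 0 0 []))
noncomputable def wt1 : LT := (.leaf 0 0 [])
noncomputable def wt2 : LT := (.leaf 0 0 [])
noncomputable def sl : List (ℕ × ℕ × List ℕ × List ℕ) := []
/-- the inverse column -/
noncomputable def icol (x : ℕ) : ℕ := List.getD [nat_lit 1, nat_lit 0] x x
noncomputable def inv (x : ℕ) : ℕ := Nat.mul (icol (Nat.div x (nat_lit 12))) (nat_lit 12)
def cols : List ℕ := [nat_lit 24, nat_lit 0, nat_lit 12]
noncomputable def cl : CL := (.cons (nat_lit 0) (nat_lit 12) (nat_lit 0) (nat_lit 0) wt0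
(.cons (nat_lit 12) (nat_lit 0) (nat_lit 13) (nat_lit 1) wt1
.nil))
def rels : List (List ℕ) := [[0, 0, 0, 0, 0, 0, 0, 0]]
def subs : List (List ℕ) := []
noncomputable def chk : ℕ → Bool := rowChk row jrow fget sl cols (nat_lit 8) (nat_lit 8) (nat_lit 4095) (nat_lit 15) (nat_lit 4096) (nat_lit 24) (nat_lit 36) (nat_lit 8191) (nat_lit 6) (nat_lit 63) (nat_lit 3) (nat_lit 7) cl (nat_lit 26) wt2
theorem p0 : allB chk 4 0 = true := by decide +kernel
theorem all_chk : AllLt chk 8 := by
  have h := AllLt.zero chk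
  have h := h.step 8 p0 (by decide +kernel)
  exact h
/-- column `x` of the final table -/
noncomputable def tab (x u : ℕ) : ℕ := ft fget (nat_lit 6) (nat_lit 63) (nat_lit 3) (nat_lit 7) (Nat.mul x (nat_lit 1)) u
theorem enum {G Ω : Type*} [Group G] [MulAction G Ω] (g : ℕ → G) (ω : Ω)
    (hinv : ∀ x, g (icol x) = (g x)⁻¹) (h1 : g 2 = 1)
    (hrels : ∀ R ∈ rels, ev g R = 1) (hsubs : ∀ S ∈ subs, ev g S • ω = ω) :
    ∃ pt : ℕ → Ω, pt 0 = ω ∧ (∀ K : Subgroup G, (∀ x, g x ∈ K) → ∀ v, ∃ k ∈ K, pt v = k • ω) ∧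
      ∀ x, x < 2 → ∀ u, u < 8 → tab x u < 8 ∧ g x • pt u = pt (tab x u) :=
  sound_scaled g ω row jrow fget sl inv icol cols (nat_lit 8) (nat_lit 8) (nat_lit 4095) (nat_lit 15) (nat_lit 4096) (nat_lit 24) (nat_lit 36) (nat_lit 8191) (nat_lit 6) (nat_lit 63) (nat_lit 3) (nat_lit 7) 4 cl (nat_lit 26) wt2 rels subs 12 (nat_lit 1) 2
    (fun _ => Nat.mul_div_cancel _ (by decide)) hinv h1 hrels hsubs
    (by decide +kernel) (by decide +kernel) all_chk
end T54.Ly1
namespace T54.Ly2
open H54 (Tr force band)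
open H18.TC
noncomputable def T_0 : Tr := (.node (nat_lit 3) (.node (nat_lit 1) (.node (nat_lit 0) (.leaf (nat_lit 0xa80001df143220d08b400a800015ec5fd1ccc6b3003800024d0b350bf437d00a80000ff85b912d8536000000026dc7b807f817e007000018e427f0ee833a00a800003fc43b06f023c00000000af413e02fc07f)) (.leaf (nat_lit 0xa800055c95f75c956a500380003899b2727dca7700a80004fe15b052a1528003800048a502a19e46f900000005eac8fa21e07f800a80002be992c2eb4c2d00000003ab8caf13ec47b007000058c097c2ac4a31))) (.node (nat_lit 2) (.leaf (nat_lit 0xaa6759a53c94720070000a26d1f34c853a100a80003fce69c427511d007000066b1774627981e00a800063d596b6a7da1f000000070812a12fd4b7500700007c88e763e8cf2300a800031d9d243498da6)) (.leaf (nat_lit 0x70000ca45bed7281c6000a800049b73124da52e900a80007991eee800df83003800046764933bb8f6e00a800073bdea27651e1400380009056f1659c16f00000000825cdf135bccef00a80006bc62186d9dba7)))) (.node (nat_lit 5) (.node (nat_lit 4) (.leaf (nat_lit 0xa8000879e2578e563150070000ba32a68ae36acd00a8000d5a3a0bd83b68e00a80009f72869a63290c00a800099aa81b9c0a7820000000a83516343a906a0038000dc3a50f5fad86b0038000b85b09067b1a6c))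 (.leaf (nat_lit 0xa8000c17f0d5c8471910038000ce4b260c5431d000a8000cb87351d21f40700a8000918ec09973e58f0000000be3f7887791d640038000c4423e58b623580038000bd96ddfb326d4900700008a62066862a10a))) (.node (nat_lit 6) (.leaf (nat_lit 0xa8000dd537cee41788500a8000af4ec4db65ad160038000e6174c7835e15700a8000e76ba4cee1bb060038000ea2ee59a36e95b0070000b2269ddac66b590000000e0236ded96b5da00a8000937afd4954e613)) (.leaf (nat_lit 0x2edc00000009d726dc003b02200000007d89fe200a8000f11bcc5f613d440038000f41394ae1238c80038000f01fc84eb2fb4b0038000d42bbc6cf4b452)))))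
noncomputable def J_0 : Tr := (.node (nat_lit 3) (.node (nat_lit 1) (.node (nat_lit 0) (.leaf (nat_lit 0x4004000000000000200200100000000000000004004002000800800000000000000000000018008000001001000000000100100000000000000000000001006)) (.leaf (nat_lit 0x4004002000000000000000080080040010010000000000000000000200200100000000040018008002002000000000000000000000060020000004004000000))) (.node (nat_lit 2) (.leaf (nat_lit 0x1800800000100100000000010010000000000000000400400000000040040020000000000000000000c00400000080080000000008008000000000)) (.leaf (nat_lit 0x2002000001800200200000180080010010008000000000000000200200100040040000000000000000002800800400000000100060020008008000004000)))) (.node (nat_lit 5) (.node (nat_lit 4) (.leaf (nat_lit 0x40040020000000000001001000000c0010010000000000000800800400000000040040000000000000000002000c00400000000040040020000000002002001)) (.leaf (nat_lit 0x4004002000000000000000280080040010010008000000000800800000200000000040000018008000000002800800400000000140040020000004004000000)))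 (.node (nat_lit 6) (.leaf (nat_lit 0x400400200000000020020010000000000000001c004002000800800400000000000000070010008000001001000000400000000100060020008008000004000)) (.leaf (nat_lit 0x2000000000600200100000020020010004004002000001000000000280080040000000004004002000000000e002001)))))
noncomputable def F_0 : Tr := (.node (nat_lit 1) (.node (nat_lit 0) (.leaf (nat_lit 0xef7d2dea9a3992696cbafe306e7db5ab2c738d55137d6751acf41835e8a180a7196885c61d210e2cc0890450c0)) (.leaf (nat_lit 0xef7d2dea9a3992696cbafe306e7db5ab2c738d55137d6751acf41835e8a180a7196885c61d210e2cc0890450c0))) (.node (nat_lit 2) (.leaf (nat_lit 0xeb5ef9c72e339a286ba9fbb6dda819a17d1691cc2f4ad46c7693a794c8cb51e25b2183d51534033422861c0101)) (.leaf (nat_lit 0xe7be35aecea5d36de182d79cc2f6a76335e3572c69b926e242aa0e9a431329f7493591d650544f0c42c1206002))))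
noncomputable def T : Tr := T_0
noncomputable def J : Tr := J_0
noncomputable def F : Tr := F_0
noncomputable def row (u : ℕ) : ℕ := Nat.land (Nat.shiftRight (force (Nat.shiftRight u (nat_lit 3)) T.get) (Nat.mul (Nat.land u (nat_lit 7)) (nat_lit 84))) (nat_lit 0xfffffffffffffffffffff)
noncomputable def jrow (u : ℕ) : ℕ := Nat.land (Nat.shiftRight (force (Nat.shiftRight u (nat_lit 3)) J.get) (Nat.mul (Nat.land u (nat_lit 7)) (nat_lit 65))) (nat_lit 0x1ffffffffffffffff)
noncomputable def fget (k fx : ℕ) : ℕ := F.get (Nat.add k fx)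
noncomputable def wt0 : LT := (.node (nat_lit 0) (.leaf 7 2 [nat_lit 14, nat_lit 28, nat_lit 0, nat_lit 0, nat_lit 42])
(.node (nat_lit 2) (.node (nat_lit 1) (.leaf 5 0 [nat_lit 42, nat_lit 14, nat_lit 42, nat_lit 14, nat_lit 42, nat_lit 14, nat_lit 42])
(.leaf 9 10 [nat_lit 28, nat_lit 0, nat_lit 42, nat_lit 14, nat_lit 28, nat_lit 0, nat_lit 42, nat_lit 14, nat_lit 28, nat_lit 0, nat_lit 42]))
(.leaf 0 0 [])))
noncomputable def wt1 : LT := (.node (nat_lit 2) (.node (nat_lit 0) (.leaf 7 5 [nat_lit 0, nat_lit 42, nat_lit 14, nat_lit 14, nat_lit 28])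
(.node (nat_lit 1) (.leaf 9 0 [nat_lit 42, nat_lit 14, nat_lit 28, nat_lit 0, nat_lit 42, nat_lit 14, nat_lit 28, nat_lit 0, nat_lit 42, nat_lit 14, nat_lit 28])
(.leaf 7 0 [nat_lit 42, nat_lit 14, nat_lit 14, nat_lit 28, nat_lit 0])))
(.leaf 0 0 []))
noncomputable def wt2 : LT := (.node (nat_lit 1) (.node (nat_lit 0) (.leaf 3 0 [nat_lit 42, nat_lit 42, nat_lit 42, nat_lit 42])
(.leaf 5 7 [nat_lit 14, nat_lit 42, nat_lit 14, nat_lit 42, nat_lit 14, nat_lit 42, nat_lit 14]))
(.node (nat_lit 2) (.leaf 9 9 [nat_lit 14, nat_lit 28, nat_lit 0, nat_lit 42, nat_lit 14, nat_lit 28, nat_lit 0, nat_lit 42, nat_lit 14, nat_lit 28, nat_lit 0])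
(.leaf 0 0 [])))
noncomputable def wt3 : LT := (.node (nat_lit 0) (.leaf 9 11 [nat_lit 0, nat_lit 42, nat_lit 14, nat_lit 28, nat_lit 0, nat_lit 42, nat_lit 14, nat_lit 28, nat_lit 0, nat_lit 42, nat_lit 14])
(.leaf 0 0 []))
noncomputable def wt4 : LT := (.node (nat_lit 0) (.leaf 5 7 [nat_lit 14, nat_lit 42, nat_lit 14, nat_lit 42, nat_lit 14, nat_lit 42, nat_lit 14, nat_lit 42])
(.leaf 0 0 []))
noncomputable def sl : List (ℕ × ℕ × List ℕ × List ℕ) := [(0, nat_lit 0, [], [])]
/-- the inverse column -/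
noncomputable def icol (x : ℕ) : ℕ := List.getD [nat_lit 1, nat_lit 0, nat_lit 3, nat_lit 2] x x
noncomputable def inv (x : ℕ) : ℕ := Nat.mul (icol (Nat.div x (nat_lit 14))) (nat_lit 14)
def cols : List ℕ := [nat_lit 56, nat_lit 0, nat_lit 14, nat_lit 28, nat_lit 42]
noncomputable def cl : CL := (.cons (nat_lit 0) (nat_lit 14) (nat_lit 0) (nat_lit 0) wt0
(.cons (nat_lit 14) (nat_lit 0) (nat_lit 13) (nat_lit 1) wt1
(.cons (nat_lit 28) (nat_lit 42) (nat_lit 26) (nat_lit 2) wt2
(.cons (nat_lit 42) (nat_lit 28) (nat_lit 39) (nat_lit 3) wt3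
.nil))))
def rels : List (List ℕ) := [[0, 0, 0, 0, 0, 0, 0, 0],
[2, 2, 2, 2, 2],
[0, 2, 0, 2, 0, 2, 0, 2],
[1, 1, 3, 0, 0, 2],
[1, 3, 0, 2, 1, 3, 0, 2, 1, 3, 0, 2]]
def subs : List (List ℕ) := [[0]]
noncomputable def chk : ℕ → Bool := rowChk row jrow fget sl cols (nat_lit 60) (nat_lit 62) (nat_lit 16383) (nat_lit 63) (nat_lit 16384) (nat_lit 56) (nat_lit 70) (nat_lit 8191) (nat_lit 6) (nat_lit 63) (nat_lit 6) (nat_lit 63) cl (nat_lit 52) wt4
theorem p0 : allB chk 6 0 = true := by decide +kernel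
theorem all_chk : AllLt chk 62 := by
  have h := AllLt.zero chk
  have h := h.step 62 p0 (by decide +kernel)
  exact h
/-- column `x` of the final table -/
noncomputable def tab (x u : ℕ) : ℕ := ft fget (nat_lit 6) (nat_lit 63) (nat_lit 6) (nat_lit 63) (Nat.mul x (nat_lit 1)) u
theorem enum {G Ω : Type*} [Group G] [MulAction G Ω] (g : ℕ → G) (ω : Ω)
    (hinv : ∀ x, g (icol x) = (g x)⁻¹) (h1 : g 4 = 1)
    (hrels : ∀ R ∈ rels, ev g R = 1) (hsubs : ∀ S ∈ subs, ev g S • ω = ω) :
    ∃ pt : ℕ → Ω, pt 0 = ω ∧ (∀ K : Subgroup G, (∀ x, g x ∈ K) → ∀ v, ∃ k ∈ K, pt v = k • ω) ∧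
      ∀ x, x < 4 → ∀ u, u < 60 → tab x u < 60 ∧ g x • pt u = pt (tab x u) :=
  sound_scaled g ω row jrow fget sl inv icol cols (nat_lit 60) (nat_lit 62) (nat_lit 16383) (nat_lit 63) (nat_lit 16384) (nat_lit 56) (nat_lit 70) (nat_lit 8191) (nat_lit 6) (nat_lit 63) (nat_lit 6) (nat_lit 63) 6 cl (nat_lit 52) wt4 rels subs 14 (nat_lit 1) 4
    (fun _ => Nat.mul_div_cancel _ (by decide)) hinv h1 hrels hsubs
    (by decide +kernel) (by decide +kernel) all_chk
end T54.Ly2
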