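import Cfsg.Agent.Lib.CGT.Pres
import Cfsg.Agent.Lib.Ly.TC1
import Cfsg.Agent.Lib.Ly.Ly3
import Cfsg.Agent.Lib.Ly.Ly4
/-! The relators 1-44 of the Lyons presentation define a group of order at most 5859000000 -/
set_option autoImplicit false
set_option maxRecDepth 100000
namespace H54.Ly
open Cfsg.Spor
def RP : List (List ℕ) := [[0, 0, 0, 0, 0, 0, 0, 0],
  [2, 2, 2, 2, 2],
  [0, 2, 0, 2, 0, 2, 0, 2],
  [1, 1, 3, 0, 0, 2],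
  [1, 3, 0, 2, 1, 3, 0, 2, 1, 3, 0, 2],
  [10, 5],
  [12, 1, 5, 0],
  [14, 3, 5, 2],
  [16, 2, 5, 3],
  [18, 13, 11, 12, 10],
  [10, 10, 10, 10, 10],
  [18, 18, 18, 18, 18],
  [11, 19, 10, 18],
  [13, 19, 12, 18],
  [15, 19, 14, 18],
  [17, 19, 16, 18],
  [11, 15, 10, 14, 18, 18],
  [11, 17, 10, 16, 19, 19],
  [13, 15, 12, 14, 18],
  [13, 17, 12, 16],
  [15, 17, 14, 16, 18],
  [1, 12, 0, 10, 10],
  [1, 14, 0, 17, 11, 14, 14],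
  [1, 16, 0, 17, 11, 17, 14, 12, 11],
  [1, 18, 0, 19, 19],
  [3, 12, 2, 16, 10, 16, 15, 13],
  [3, 14, 2, 14, 14, 17, 11, 11],
  [3, 18, 2, 19],
  [8, 7, 11, 7, 2, 1, 3, 11, 7, 1, 11, 0, 11, 1, 10, 0, 2, 2],
  [8, 8],
  [9, 10, 8, 10, 3, 15, 3],
  [9, 14, 8, 0, 16, 10, 13, 1, 3, 3],
  [9, 16, 8, 17, 14, 3, 3],
  [9, 18, 8, 16, 11, 14, 11],
  [8, 0, 0, 8, 16, 19, 11, 1, 2, 1, 3, 3, 1],
  [9, 2, 8, 16, 16, 14, 11],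
  [8, 0, 2, 2, 0, 3, 0, 8, 16, 19, 11, 1, 1],
  [8, 12, 8, 13, 8, 12, 17, 0, 14, 0, 0, 0],
  [6, 9, 3, 12, 1, 9, 1, 9, 1, 18, 16, 10, 2, 0, 3, 3, 1],
  [6, 6, 1, 1, 1, 1],
  [3, 7, 2, 6],
  [7, 0, 6, 1, 1, 1],
  [6, 18, 6, 18, 6, 18, 6, 18, 6, 18],
  [6, 18, 6, 19, 6, 18, 1, 1]]
def R1 : List (List ℕ) := [[0, 0, 0, 0, 0, 0, 0, 0]]
def R2 : List (List ℕ) := [[0, 0, 0, 0, 0, 0, 0, 0],
  [2, 2, 2, 2, 2],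
  [0, 2, 0, 2, 0, 2, 0, 2],
  [1, 1, 3, 0, 0, 2],
  [1, 3, 0, 2, 1, 3, 0, 2, 1, 3, 0, 2]]
def R3 : List (List ℕ) := [[0, 0, 0, 0, 0, 0, 0, 0],
  [2, 2, 2, 2, 2],
  [0, 2, 0, 2, 0, 2, 0, 2],
  [1, 1, 3, 0, 0, 2],
  [1, 3, 0, 2, 1, 3, 0, 2, 1, 3, 0, 2],
  [6, 5],
  [8, 1, 5, 0],
  [10, 3, 5, 2],
  [12, 2, 5, 3],
  [14, 9, 7, 8, 6],
  [6, 6, 6, 6, 6],
  [14, 14, 14, 14, 14],
  [7, 15, 6, 14],
  [9, 15, 8, 14],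
  [11, 15, 10, 14],
  [13, 15, 12, 14],
  [7, 11, 6, 10, 14, 14],
  [7, 13, 6, 12, 15, 15],
  [9, 11, 8, 10, 14],
  [9, 13, 8, 12],
  [11, 13, 10, 12, 14],
  [1, 8, 0, 6, 6],
  [1, 10, 0, 13, 7, 10, 10],
  [1, 12, 0, 13, 7, 13, 10, 8, 7],
  [1, 14, 0, 15, 15],
  [3, 8, 2, 12, 6, 12, 11, 9],
  [3, 10, 2, 10, 10, 13, 7, 7],
  [3, 14, 2, 15]]
theorem bnd1 : Bnd R1 1 8 :=
  Bnd.tc (bnd_zero []) (n := 8) (fun g ω => T54.Ly1.enum g ω) (by decide) [0, 1] rfl (icol_ge _ rfl)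
    []
    [([0, 1], []),
  ([1, 0], [])]
    (by decide +kernel)
theorem bnd2 : Bnd R2 2 480 :=
  Bnd.tc bnd1 (n := 60) (fun g ω => T54.Ly2.enum g ω) (by decide) [0, 1, 2, 3] rfl (icol_ge _ rfl)
    [[0]]
    [([0, 1], []),
  ([1, 0], []),
  ([2, 3], []),
  ([3, 2], [])]
    (by decide +kernel)
theorem bnd3 : Bnd R3 8 1500000 :=
  Bnd.tc bnd2 (n := 3125) (fun g ω => T54.Ly3.enum g ω) (by decide) [0, 1, 2, 3, 4, 5, 6, 7, 8, 9, 10, 11, 12, 13, 14, 15] rfl (icol_ge _ rfl)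
    [[0],
  [2]]
    [([0, 1], []),
  ([1, 0], []),
  ([2, 3], []),
  ([3, 2], []),
  ([4, 5], []),
  ([5, 4], []),
  ([6, 7], []),
  ([7, 6], []),
  ([8, 9], []),
  ([9, 8], []),
  ([10, 11], []),
  ([11, 10], []),
  ([12, 13], []),
  ([13, 12], []),
  ([14, 15], []),
  ([15, 14], [])]
    (by decide +kernel)
theorem bndP : Bnd RP 10 5859000000 :=
  Bnd.tc bnd3 (n := 3906) (fun g ω => T54.Ly4.enum g ω) (by decide) [0, 1, 2, 3, 4, 5, 6, 7, 8, 10, 11, 12, 13, 14, 15, 16, 17, 18, 19] rfl (icol_ge _ rfl)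
    [[0],
  [2],
  [4],
  [10],
  [12],
  [14],
  [16],
  [18]]
    [([0, 1], []),
  ([1, 0], []),
  ([2, 3], []),
  ([3, 2], []),
  ([4, 5], []),
  ([5, 4], []),
  ([6, 7], []),
  ([7, 6], []),
  ([10, 11], []),
  ([11, 10], []),
  ([12, 13], []),
  ([13, 12], []),
  ([14, 15], []),
  ([15, 14], []),
  ([16, 17], []),
  ([17, 16], []),
  ([18, 19], []),
  ([19, 18], []),
  ([8, 10, 8, 10, 3, 15, 3], [([], 61), ([], 59)]),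
  ([8, 14, 8, 0, 16, 10, 13, 1, 3, 3], [([], 63), ([], 59)]),
  ([8, 16, 8, 17, 14, 3, 3], [([], 65), ([], 59)]),
  ([8, 18, 8, 16, 11, 14, 11], [([], 67), ([], 59)]),
  ([8, 2, 8, 16, 16, 14, 11], [([], 71), ([], 59)]),
  ([6, 8, 3, 12, 1, 8, 1, 8, 1, 18, 16, 10, 2, 0, 3, 3, 1], [([], 77), ([6, 9, 3, 12, 1, 9, 1], 59), ([6, 9, 3, 12, 1], 59), ([6], 59)])]
    (by decide +kernel)
end H54.Ly
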