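import Cfsg.Prelude.Def_Spor_Ly
import Cfsg.Agent.Lib.Ly.Cert
/-! The Lyons presentation on the generators a, b, c, d, e, c1, …, c5, z -/
set_option autoImplicit false
set_option maxRecDepth 100000
namespace H54.Ly
open Cfsg.Spor H15.Mdl
def A : List (List ℕ) := [[0, 0, 0, 0, 0, 0, 0, 0],
  [2, 2, 2, 2, 2],
  [0, 2, 0, 2, 0, 2, 0, 2],
  [1, 1, 3, 0, 0, 2],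
  [1, 3, 0, 2, 1, 3, 0, 2, 1, 3, 0, 2],
  [20, 5],
  [22, 1, 5, 0],
  [24, 3, 5, 2],
  [26, 2, 5, 3],
  [28, 23, 21, 22, 20],
  [20, 20, 20, 20, 20],
  [28, 28, 28, 28, 28],
  [21, 29, 20, 28],
  [23, 29, 22, 28],
  [25, 29, 24, 28],
  [27, 29, 26, 28],
  [21, 25, 20, 24, 28, 28],
  [21, 27, 20, 26, 29, 29],
  [23, 25, 22, 24, 28],
  [23, 27, 22, 26],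
  [25, 27, 24, 26, 28],
  [1, 22, 0, 20, 20],
  [1, 24, 0, 27, 21, 24, 24],
  [1, 26, 0, 27, 21, 27, 24, 22, 21],
  [1, 28, 0, 29, 29],
  [3, 22, 2, 26, 20, 26, 25, 23],
  [3, 24, 2, 24, 24, 27, 21, 21],
  [3, 28, 2, 29],
  [10, 7, 21, 7, 2, 1, 3, 21, 7, 1, 21, 0, 21, 1, 20, 0, 2, 2],
  [10, 10],
  [11, 20, 10, 20, 3, 25, 3],
  [11, 24, 10, 0, 26, 20, 23, 1, 3, 3],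
  [11, 26, 10, 27, 24, 3, 3],
  [11, 28, 10, 26, 21, 24, 21],
  [10, 0, 0, 10, 26, 29, 21, 1, 2, 1, 3, 3, 1],
  [11, 2, 10, 26, 26, 24, 21],
  [10, 0, 2, 2, 0, 3, 0, 10, 26, 29, 21, 1, 1],
  [10, 22, 10, 23, 10, 22, 27, 0, 24, 0, 0, 0],
  [6, 11, 3, 22, 1, 11, 1, 11, 1, 28, 26, 20, 2, 0, 3, 3, 1],
  [6, 6, 1, 1, 1, 1],
  [3, 7, 2, 6],
  [7, 0, 6, 1, 1, 1],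
  [6, 28, 6, 28, 6, 28, 6, 28, 6, 28],
  [6, 28, 6, 29, 6, 28, 1, 1],
  [12, 1],
  [14, 2, 1, 3],
  [16, 2, 2, 1, 3, 3],
  [18, 3, 3, 1, 2, 2],
  [30, 1, 1],
  [32, 7],
  [34, 6],
  [36, 3, 5, 0, 3, 3, 4, 7, 4, 0, 5, 1, 4, 3, 3, 0, 2, 0, 3, 3],
  [38, 5, 3, 5, 7, 2, 2, 5, 7, 2, 5, 3, 5, 1, 4, 3, 3, 0, 3, 3, 0, 3, 1],
  [40, 6, 4, 3, 0, 4, 0, 6, 4],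
  [42, 7, 3],
  [44, 2, 6],
  [46, 1, 3, 4, 1, 2, 4, 3, 0, 2, 0],
  [48, 3, 5, 3, 0, 5, 1, 2, 2],
  [50, 1, 3, 1, 5, 0, 2, 0],
  [52, 3, 1, 2, 5, 3, 0, 2],
  [54, 4, 2, 2, 5, 1, 3, 5, 2, 0, 3, 3],
  [56, 0, 0, 0],
  [58, 0, 0, 2, 0, 3],
  [60, 0, 2, 2, 1, 3, 3, 1],
  [62, 2, 1, 3, 1, 2, 1, 4, 0, 2, 4, 3, 6, 4, 3, 0, 4, 2, 7, 0],
  [64, 6, 2, 5, 0, 5, 1, 5, 7, 4, 4, 0, 3, 4, 3, 5, 0, 2, 2, 1],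
  [66, 5, 3, 5, 7, 2, 2, 5, 7, 3, 5, 3, 3, 5, 2, 0, 2, 2, 0, 2, 1, 3],
  [68, 2, 0, 3, 1, 3, 3, 1, 3, 4, 2, 2, 4, 2, 6, 4, 3, 3, 6, 4, 2, 4],
  [70, 2, 2, 0, 2, 4, 2, 2, 5, 1, 4, 0, 6, 4, 1, 2, 4, 1, 6, 4, 0],
  [72, 2, 1, 2, 2, 1, 2, 4, 2, 0, 3, 6, 4, 2, 0, 3, 6, 4, 0],
  [74, 0, 3, 0, 2, 2, 0, 5, 0, 2, 1, 6, 4, 0, 5, 3, 5, 1, 6],
  [76, 3, 0, 2, 0, 2, 5, 1, 5, 0, 5, 6, 4, 3, 5, 0, 4],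
  [9, 20, 8, 47],
  [9, 22, 8, 49],
  [9, 24, 8, 51],
  [9, 26, 8, 53],
  [9, 28, 8, 55],
  [9, 12, 8, 57],
  [9, 14, 8, 59],
  [9, 16, 8, 61],
  [8, 8, 31],
  [18, 8, 18, 8, 18, 8, 30],
  [40, 8, 62, 8, 70, 8],
  [9, 34, 9, 72, 8, 32, 8, 38],
  [8, 66, 8, 64, 9, 68, 9, 74],
  [8, 42, 8, 36, 9, 44, 9, 76]]
def RD : List (List ℕ) := [[1, 1, 20, 20],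
  [0, 0, 3, 3, 0, 2, 2, 20, 3, 3, 0, 2, 2, 20, 3, 3, 0, 2, 2, 20],
  [5, 7, 1, 5, 1, 2, 5, 7, 20, 1, 6, 3, 5, 1, 2, 5, 7, 2, 5, 3, 1, 5, 0, 3, 0, 2, 0, 3, 20, 1, 5, 7, 0, 5, 3, 0, 5, 7, 1, 5, 0, 4, 3, 3, 5, 3, 1, 3, 3, 20],
  [0, 2, 1, 2, 2, 1, 2, 2, 5, 0, 4, 2, 4, 3, 6, 4, 3, 3, 6, 4, 2, 4, 1, 1, 20, 7, 1, 1, 20, 1, 5, 7, 2, 1, 3, 5, 7, 2, 1, 3, 5, 3, 0, 3, 3, 0, 3, 20, 6, 20],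
  [7, 0, 4, 2, 4, 1, 5, 7, 0, 3, 1, 4, 1, 3, 3, 1, 2, 1, 20, 2, 0, 3, 1, 3, 3, 1, 3, 4, 2, 2, 4, 2, 6, 4, 3, 3, 6, 4, 2, 4, 20, 0, 3, 3, 1, 4, 2, 5, 2, 1, 5, 5, 6, 4, 0, 4, 1, 4, 3, 7, 1, 1, 20, 5, 3, 5, 7, 2, 2, 5, 7, 3, 5, 3, 3, 5, 2, 0, 2, 2, 0, 2, 1, 3, 1, 1, 20],
  [5, 1, 4, 2, 5, 7, 4, 1, 4, 0, 4, 3, 1, 3, 1, 2, 20, 2, 6, 20, 2, 2, 1, 3, 1, 2, 2, 5, 0, 4, 1, 5, 6, 5, 2, 2, 1, 4, 2, 1, 1, 20, 7, 3, 1, 1, 20],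
  [20, 1, 3, 1, 2, 5, 3, 0, 5, 2, 0, 21, 11],
  [20, 3, 3, 0, 4, 1, 2, 4, 2, 21, 13],
  [20, 1, 3, 1, 4, 0, 2, 0, 21, 15],
  [20, 3, 1, 2, 4, 3, 0, 2, 21, 17],
  [20, 2, 2, 1, 3, 4, 2, 0, 4, 3, 3, 5, 21, 19],
  [20, 1, 1, 1, 21, 1],
  [20, 2, 1, 3, 1, 1, 21, 2, 1, 3],
  [20, 0, 2, 2, 0, 3, 3, 1, 21, 2, 2, 1, 3, 3]]
def R : List (List ℕ) := RP ++ RD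
def gens : List Ly.Gen := [.a, .b, .c, .d, .z, .e, .a1, .a2, .a3, .a4, .c1, .c2, .c3, .c4, .c5, .u, .x23, .x24, .x25, .x29, .x47, .x96, .x129, .x162, .x163, .x164, .x165, .x166, .x167, .x168, .x169, .x364, .x365, .x366, .x367, .x368, .x369, .x370, .x371]
theorem mem_gens (y : Ly.Gen) : y ∈ gens := by cases y <;> decide
theorem allR_eq : allR gens Ly.edges Ly.extra = A := by decide +kernel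
def E : List (List ℕ) := [[0], [2], [4], [6], [10], [20], [22], [24], [26], [28], [8]]
/-- the generators a, b, c, d, e, c1, …, c5, z -/
noncomputable def x (j : ℕ) : Ly := evW (cgen gens Ly.edges Ly.extra) (nthW E j)
theorem pres : Pres R 11 Ly x :=
  (allR_eq ▸ pres_cox mem_gens (by decide) : Pres A 39 Ly (cgen gens Ly.edges Ly.extra)).tietze E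
  [[0],
  [2],
  [4],
  [6],
  [20],
  [8],
  [0],
  [2, 0, 3],
  [2, 2, 0, 3, 3],
  [3, 3, 0, 2, 2],
  [10],
  [12],
  [14],
  [16],
  [18],
  [0, 0],
  [6],
  [7],
  [2, 2, 1, 3, 1, 2, 2, 5, 0, 4, 1, 5, 6, 5, 2, 2, 1, 4, 2],
  [0, 2, 1, 2, 2, 1, 2, 2, 5, 0, 4, 2, 4, 3, 6, 4, 3, 3, 6, 4, 2, 4],
  [5, 7, 1, 5, 1, 2, 5, 7],
  [2, 6],
  [7, 3],
  [1, 3, 1, 2, 5, 3, 0, 5, 2, 0],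
  [3, 3, 0, 4, 1, 2, 4, 2],
  [1, 3, 1, 4, 0, 2, 0],
  [3, 1, 2, 4, 3, 0, 2],
  [2, 2, 1, 3, 4, 2, 0, 4, 3, 3, 5],
  [1, 1, 1],
  [2, 1, 3, 1, 1],
  [0, 2, 2, 0, 3, 3, 1],
  [1, 6, 3, 5, 1, 2, 5, 7, 2, 5, 3, 1, 5, 0, 3, 0, 2, 0, 3],
  [0, 3, 3, 1, 4, 2, 5, 2, 1, 5, 5, 6, 4, 0, 4, 1, 4, 3, 7],
  [2, 0, 3, 1, 3, 3, 1, 3, 4, 2, 2, 4, 2, 6, 4, 3, 3, 6, 4, 2, 4],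
  [5, 3, 5, 7, 2, 2, 5, 7, 3, 5, 3, 3, 5, 2, 0, 2, 2, 0, 2, 1, 3],
  [1, 5, 7, 0, 5, 3, 0, 5, 7, 1, 5, 0, 4, 3, 3, 5, 3, 1, 3, 3],
  [1, 5, 7, 2, 1, 3, 5, 7, 2, 1, 3, 5, 3, 0, 3, 3, 0, 3],
  [7, 0, 4, 2, 4, 1, 5, 7, 0, 3, 1, 4, 1, 3, 3, 1, 2, 1],
  [5, 1, 4, 2, 5, 7, 4, 1, 4, 0, 4, 3, 1, 3, 1, 2]]
  (L := [([1, 1, 8, 8], [([9, 9], 97), ([9, 9], 161)]),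
  ([0, 0, 3, 3, 0, 2, 2, 8, 3, 3, 0, 2, 2, 8, 3, 3, 0, 2, 2, 8], [([9, 3, 3, 1, 2, 2, 9, 3, 3, 1, 2, 2, 9, 19], 94), ([9, 3, 3, 1, 2, 2, 9, 19], 94), ([9, 19], 94), ([30], 163), ([], 96)]),
  ([5, 7, 1, 5, 1, 2, 5, 7, 8, 1, 6, 3, 5, 1, 2, 5, 7, 2, 5, 3, 1, 5, 0, 3, 0, 2, 0, 3, 8, 1, 5, 7, 0, 5, 3, 0, 5, 7, 1, 5, 0, 4, 3, 3, 5, 3, 1, 3, 3, 8], [([9, 71], 136), ([9, 71, 9, 63], 128), ([9, 71, 9, 63, 9, 41], 106), ([], 165)]),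
  ([0, 2, 1, 2, 2, 1, 2, 2, 5, 0, 4, 2, 4, 3, 6, 4, 3, 3, 6, 4, 2, 4, 1, 1, 8, 7, 1, 1, 8, 1, 5, 7, 2, 1, 3, 5, 7, 2, 1, 3, 5, 3, 0, 3, 3, 0, 3, 8, 6, 8], [([9, 7, 9, 2, 1, 2, 2, 1, 2, 4, 2, 0, 3, 6, 4, 2, 0, 3, 6, 4, 0, 9, 0, 0, 6, 9, 0, 0, 39], 104), ([9, 7, 9, 73], 138), ([9, 7, 9, 73, 9, 0, 0, 6, 9], 97), ([9, 7, 9, 73, 9, 0, 0, 6, 9], 161), ([9, 7, 9, 73, 9], 97), ([9, 7, 9, 73, 9], 161), ([9, 33], 98), ([38], 167), ([38, 9], 100)]),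
  ([7, 0, 4, 2, 4, 1, 5, 7, 0, 3, 1, 4, 1, 3, 3, 1, 2, 1, 8, 2, 0, 3, 1, 3, 3, 1, 3, 4, 2, 2, 4, 2, 6, 4, 3, 3, 6, 4, 2, 4, 8, 0, 3, 3, 1, 4, 2, 5, 2, 1, 5, 5, 6, 4, 0, 4, 1, 4, 3, 7, 1, 1, 8, 5, 3, 5, 7, 2, 2, 5, 7, 3, 5, 3, 3, 5, 2, 0, 2, 2, 0, 2, 1, 3, 1, 1, 8], [([9, 0, 0, 2, 0, 3, 1, 3, 3, 1, 3, 4, 2, 2, 4, 2, 6, 4, 3, 3, 6, 4, 2, 4, 9, 0, 0, 6, 2, 5, 0, 5, 1, 5, 7, 4, 4, 0, 3, 4, 3, 5, 0, 2, 2, 1, 9, 67], 132), ([9, 0, 0, 69], 134), ([9, 0, 0, 69, 9, 0, 0, 65], 130), ([9, 0, 0, 69, 9, 0, 0, 65, 9, 67, 9, 75], 140), ([9, 0, 0, 69, 9, 0, 0, 65, 9, 67, 9], 169), ([9, 0, 0, 69, 9], 97), ([9, 0, 0, 69, 9], 161), ([9], 97), ([9], 161)]),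
  ([5, 1, 4, 2, 5, 7, 4, 1, 4, 0, 4, 3, 1, 3, 1, 2, 8, 2, 6, 8, 2, 2, 1, 3, 1, 2, 2, 5, 0, 4, 1, 5, 6, 5, 2, 2, 1, 4, 2, 1, 1, 8, 7, 3, 1, 1, 8], [([9, 0, 0, 2, 6, 9, 0, 0, 37], 102), ([9, 0, 0, 2, 6, 9, 0, 0, 37, 9, 7, 3, 9, 77], 142), ([9, 0, 0, 2, 6, 9, 0, 0, 37, 9, 43], 108), ([9, 0, 0, 2, 6, 9, 0, 0, 37, 9, 43, 9], 171), ([9, 0, 0, 2, 6, 9], 97), ([9, 0, 0, 2, 6, 9], 161), ([9, 0, 0, 45], 110), ([9], 97), ([9], 161)]),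
  ([8, 1, 3, 1, 2, 5, 3, 0, 5, 2, 0, 9, 21], [([20, 8, 47], 112), ([8], 144)]),
  ([8, 3, 3, 0, 4, 1, 2, 4, 2, 9, 23], [([22, 8, 49], 114), ([8], 146)]),
  ([8, 1, 3, 1, 4, 0, 2, 0, 9, 25], [([24, 8, 51], 116), ([8], 148)]),
  ([8, 3, 1, 2, 4, 3, 0, 2, 9, 27], [([26, 8, 53], 118), ([8], 150)]),
  ([8, 2, 2, 1, 3, 4, 2, 0, 4, 3, 3, 5, 9, 29], [([28, 8, 55], 120), ([8], 152)]),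
  ([8, 1, 1, 1, 9, 1], [([0, 8, 57], 122), ([0, 13, 8], 154), ([], 89)]),
  ([8, 2, 1, 3, 1, 1, 9, 2, 1, 3], [([2, 0, 3, 8, 59], 124), ([2, 0, 3, 15, 8], 156), ([], 91)]),
  ([8, 0, 2, 2, 0, 3, 3, 1, 9, 2, 2, 1, 3, 3], [([2, 2, 0, 3, 3, 8, 61], 126), ([], 93), ([8], 158)]),
  ([1, 0], []),
  ([3, 2], []),
  ([5, 4], []),
  ([7, 6], []),
  ([9, 8], []),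
  ([11, 10], []),
  ([13, 0], [([1], 88)]),
  ([15, 2, 0, 3], [([2, 1, 3], 90)]),
  ([17, 2, 2, 0, 3, 3], [([2, 2, 1, 3, 3], 92)]),
  ([19, 3, 3, 0, 2, 2], [([3, 3, 1, 2, 2], 94)]),
  ([21, 20], []),
  ([23, 22], []),
  ([25, 24], []),
  ([27, 26], []),
  ([29, 28], []),
  ([31, 0, 0], [([1, 1], 96)]),
  ([33, 6], [([7], 98)]),
  ([35, 7], [([6], 100)]),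
  ([37, 2, 2, 1, 3, 1, 2, 2, 5, 0, 4, 1, 5, 6, 5, 2, 2, 1, 4, 2], [([3, 5, 0, 3, 3, 4, 7, 4, 0, 5, 1, 4, 3, 3, 0, 2, 0, 3, 3], 102)]),
  ([39, 0, 2, 1, 2, 2, 1, 2, 2, 5, 0, 4, 2, 4, 3, 6, 4, 3, 3, 6, 4, 2, 4], [([5, 3, 5, 7, 2, 2, 5, 7, 2, 5, 3, 5, 1, 4, 3, 3, 0, 3, 3, 0, 3, 1], 104)]),
  ([41, 5, 7, 1, 5, 1, 2, 5, 7], [([6, 4, 3, 0, 4, 0, 6, 4], 106)]),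
  ([43, 2, 6], [([7, 3], 108)]),
  ([45, 7, 3], [([2, 6], 110)]),
  ([47, 1, 3, 1, 2, 5, 3, 0, 5, 2, 0], [([1, 3, 4, 1, 2, 4, 3, 0, 2, 0], 112)]),
  ([49, 3, 3, 0, 4, 1, 2, 4, 2], [([3, 5, 3, 0, 5, 1, 2, 2], 114)]),
  ([51, 1, 3, 1, 4, 0, 2, 0], [([1, 3, 1, 5, 0, 2, 0], 116)]),
  ([53, 3, 1, 2, 4, 3, 0, 2], [([3, 1, 2, 5, 3, 0, 2], 118)]),
  ([55, 2, 2, 1, 3, 4, 2, 0, 4, 3, 3, 5], [([4, 2, 2, 5, 1, 3, 5, 2, 0, 3, 3], 120)]),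
  ([57, 1, 1, 1], [([0, 0, 0], 122)]),
  ([59, 2, 1, 3, 1, 1], [([0, 0, 2, 0, 3], 124)]),
  ([61, 0, 2, 2, 0, 3, 3, 1], [([0, 2, 2, 1, 3, 3, 1], 126)]),
  ([63, 1, 6, 3, 5, 1, 2, 5, 7, 2, 5, 3, 1, 5, 0, 3, 0, 2, 0, 3], [([2, 1, 3, 1, 2, 1, 4, 0, 2, 4, 3, 6, 4, 3, 0, 4, 2, 7, 0], 128)]),
  ([65, 0, 3, 3, 1, 4, 2, 5, 2, 1, 5, 5, 6, 4, 0, 4, 1, 4, 3, 7], [([6, 2, 5, 0, 5, 1, 5, 7, 4, 4, 0, 3, 4, 3, 5, 0, 2, 2, 1], 130)]),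
  ([67, 2, 0, 3, 1, 3, 3, 1, 3, 4, 2, 2, 4, 2, 6, 4, 3, 3, 6, 4, 2, 4], [([5, 3, 5, 7, 2, 2, 5, 7, 3, 5, 3, 3, 5, 2, 0, 2, 2, 0, 2, 1, 3], 132)]),
  ([69, 5, 3, 5, 7, 2, 2, 5, 7, 3, 5, 3, 3, 5, 2, 0, 2, 2, 0, 2, 1, 3], [([2, 0, 3, 1, 3, 3, 1, 3, 4, 2, 2, 4, 2, 6, 4, 3, 3, 6, 4, 2, 4], 134)]),
  ([71, 1, 5, 7, 0, 5, 3, 0, 5, 7, 1, 5, 0, 4, 3, 3, 5, 3, 1, 3, 3], [([2, 2, 0, 2, 4, 2, 2, 5, 1, 4, 0, 6, 4, 1, 2, 4, 1, 6, 4, 0], 136)]),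
  ([73, 1, 5, 7, 2, 1, 3, 5, 7, 2, 1, 3, 5, 3, 0, 3, 3, 0, 3], [([2, 1, 2, 2, 1, 2, 4, 2, 0, 3, 6, 4, 2, 0, 3, 6, 4, 0], 138)]),
  ([75, 7, 0, 4, 2, 4, 1, 5, 7, 0, 3, 1, 4, 1, 3, 3, 1, 2, 1], [([0, 3, 0, 2, 2, 0, 5, 0, 2, 1, 6, 4, 0, 5, 3, 5, 1, 6], 140)]),
  ([77, 5, 1, 4, 2, 5, 7, 4, 1, 4, 0, 4, 3, 1, 3, 1, 2], [([3, 0, 2, 0, 2, 5, 1, 5, 0, 5, 6, 4, 3, 5, 0, 4], 142)])])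
  (L' := [([0, 1], []),
  ([2, 0, 3, 2, 1, 3], []),
  ([2, 2, 0, 3, 3, 2, 2, 1, 3, 3], []),
  ([3, 3, 0, 2, 2, 3, 3, 1, 2, 2], []),
  ([0, 0, 1, 1], []),
  ([6, 7], []),
  ([7, 6], []),
  ([2, 2, 1, 3, 1, 2, 2, 5, 0, 4, 1, 5, 6, 5, 2, 2, 1, 4, 2, 3, 5, 0, 3, 3, 4, 7, 4, 0, 5, 1, 4, 3, 3, 0, 2, 0, 3, 3], []),
  ([0, 2, 1, 2, 2, 1, 2, 2, 5, 0, 4, 2, 4, 3, 6, 4, 3, 3, 6, 4, 2, 4, 5, 3, 5, 7, 2, 2, 5, 7, 2, 5, 3, 5, 1, 4, 3, 3, 0, 3, 3, 0, 3, 1], []),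
  ([5, 7, 1, 5, 1, 2, 5, 7, 6, 4, 3, 0, 4, 0, 6, 4], []),
  ([2, 6, 7, 3], []),
  ([7, 3, 2, 6], []),
  ([1, 3, 1, 2, 5, 3, 0, 5, 2, 0, 1, 3, 4, 1, 2, 4, 3, 0, 2, 0], []),
  ([3, 3, 0, 4, 1, 2, 4, 2, 3, 5, 3, 0, 5, 1, 2, 2], []),
  ([1, 3, 1, 4, 0, 2, 0, 1, 3, 1, 5, 0, 2, 0], []),
  ([3, 1, 2, 4, 3, 0, 2, 3, 1, 2, 5, 3, 0, 2], []),
  ([2, 2, 1, 3, 4, 2, 0, 4, 3, 3, 5, 4, 2, 2, 5, 1, 3, 5, 2, 0, 3, 3], []),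
  ([1, 1, 1, 0, 0, 0], []),
  ([2, 1, 3, 1, 1, 0, 0, 2, 0, 3], []),
  ([0, 2, 2, 0, 3, 3, 1, 0, 2, 2, 1, 3, 3, 1], []),
  ([1, 6, 3, 5, 1, 2, 5, 7, 2, 5, 3, 1, 5, 0, 3, 0, 2, 0, 3, 2, 1, 3, 1, 2, 1, 4, 0, 2, 4, 3, 6, 4, 3, 0, 4, 2, 7, 0], []),
  ([0, 3, 3, 1, 4, 2, 5, 2, 1, 5, 5, 6, 4, 0, 4, 1, 4, 3, 7, 6, 2, 5, 0, 5, 1, 5, 7, 4, 4, 0, 3, 4, 3, 5, 0, 2, 2, 1], []),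
  ([2, 0, 3, 1, 3, 3, 1, 3, 4, 2, 2, 4, 2, 6, 4, 3, 3, 6, 4, 2, 4, 5, 3, 5, 7, 2, 2, 5, 7, 3, 5, 3, 3, 5, 2, 0, 2, 2, 0, 2, 1, 3], []),
  ([5, 3, 5, 7, 2, 2, 5, 7, 3, 5, 3, 3, 5, 2, 0, 2, 2, 0, 2, 1, 3, 2, 0, 3, 1, 3, 3, 1, 3, 4, 2, 2, 4, 2, 6, 4, 3, 3, 6, 4, 2, 4], []),
  ([1, 5, 7, 0, 5, 3, 0, 5, 7, 1, 5, 0, 4, 3, 3, 5, 3, 1, 3, 3, 2, 2, 0, 2, 4, 2, 2, 5, 1, 4, 0, 6, 4, 1, 2, 4, 1, 6, 4, 0], []),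
  ([1, 5, 7, 2, 1, 3, 5, 7, 2, 1, 3, 5, 3, 0, 3, 3, 0, 3, 2, 1, 2, 2, 1, 2, 4, 2, 0, 3, 6, 4, 2, 0, 3, 6, 4, 0], []),
  ([7, 0, 4, 2, 4, 1, 5, 7, 0, 3, 1, 4, 1, 3, 3, 1, 2, 1, 0, 3, 0, 2, 2, 0, 5, 0, 2, 1, 6, 4, 0, 5, 3, 5, 1, 6], []),
  ([5, 1, 4, 2, 5, 7, 4, 1, 4, 0, 4, 3, 1, 3, 1, 2, 3, 0, 2, 0, 2, 5, 1, 5, 0, 5, 6, 4, 3, 5, 0, 4], []),
  ([21, 10, 20, 1, 3, 4, 1, 2, 4, 3, 0, 2, 0], [([1, 3, 1, 2, 5, 3, 0, 5, 2, 0, 21, 11], 100)]),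
  ([21, 12, 20, 3, 5, 3, 0, 5, 1, 2, 2], [([3, 3, 0, 4, 1, 2, 4, 2, 21, 13], 102)]),
  ([21, 14, 20, 1, 3, 1, 5, 0, 2, 0], [([1, 3, 1, 4, 0, 2, 0, 21, 15], 104)]),
  ([21, 16, 20, 3, 1, 2, 5, 3, 0, 2], [([3, 1, 2, 4, 3, 0, 2, 21, 17], 106)]),
  ([21, 18, 20, 4, 2, 2, 5, 1, 3, 5, 2, 0, 3, 3], [([2, 2, 1, 3, 4, 2, 0, 4, 3, 3, 5, 21, 19], 108)]),
  ([21, 0, 20, 0, 0, 0], [([1, 1, 1, 21, 1], 110)]),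
  ([21, 2, 0, 3, 20, 0, 0, 2, 0, 3], [([2, 1, 3, 1, 1, 21, 2, 1, 3], 112)]),
  ([21, 2, 2, 0, 3, 3, 20, 0, 2, 2, 1, 3, 3, 1], [([0, 2, 2, 0, 3, 3, 1, 21, 2, 2, 1, 3, 3], 114)]),
  ([20, 20, 1, 1], [([0, 0], 89)]),
  ([3, 3, 0, 2, 2, 20, 3, 3, 0, 2, 2, 20, 3, 3, 0, 2, 2, 20, 0, 0], [([1, 1], 91)]),
  ([21, 7, 21, 1, 5, 7, 2, 1, 3, 5, 7, 2, 1, 3, 5, 3, 0, 3, 3, 0, 3, 20, 6, 20, 0, 2, 1, 2, 2, 1, 2, 2, 5, 0, 4, 2, 4, 3, 6, 4, 3, 3, 6, 4, 2, 4], [([5, 3, 5, 7, 2, 2, 5, 7, 2, 5, 3, 5, 1, 4, 3, 3, 0, 3, 3, 0, 3, 1], 95), ([1, 1, 20, 7], 88), ([], 88)]),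
  ([20, 2, 0, 3, 1, 3, 3, 1, 3, 4, 2, 2, 4, 2, 6, 4, 3, 3, 6, 4, 2, 4, 20, 0, 3, 3, 1, 4, 2, 5, 2, 1, 5, 5, 6, 4, 0, 4, 1, 4, 3, 7, 21, 5, 3, 5, 7, 2, 2, 5, 7, 3, 5, 3, 3, 5, 2, 0, 2, 2, 0, 2, 1, 3, 21, 7, 0, 4, 2, 4, 1, 5, 7, 0, 3, 1, 4, 1, 3, 3, 1, 2, 1], [([20, 2, 0, 3, 1, 3, 3, 1, 3, 4, 2, 2, 4, 2, 6, 4, 3, 3, 6, 4, 2, 4, 20, 0, 3, 3, 1, 4, 2, 5, 2, 1, 5, 5, 6, 4, 0, 4, 1, 4, 3, 7, 1, 1, 20, 5, 3, 5, 7, 2, 2, 5, 7, 3, 5, 3, 3, 5, 2, 0, 2, 2, 0, 2, 1, 3, 1, 1, 20], 97), ([20, 2, 0, 3, 1, 3, 3, 1, 3, 4, 2, 2, 4, 2, 6, 4, 3, 3, 6, 4, 2, 4, 20, 0, 3, 3, 1, 4, 2, 5, 2, 1, 5, 5, 6, 4, 0, 4, 1, 4, 3, 7, 1, 1, 20, 5, 3, 5, 7, 2, 2, 5, 7, 3, 5, 3, 3, 5, 2, 0, 2, 2, 0, 2, 1, 3], 88), ([20, 2,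 0, 3, 1, 3, 3, 1, 3, 4, 2, 2, 4, 2, 6, 4, 3, 3, 6, 4, 2, 4, 20, 0, 3, 3, 1, 4, 2, 5, 2, 1, 5, 5, 6, 4, 0, 4, 1, 4, 3, 7], 88)]),
  ([20, 2, 6, 20, 2, 2, 1, 3, 1, 2, 2, 5, 0, 4, 1, 5, 6, 5, 2, 2, 1, 4, 2, 21, 7, 3, 21, 5, 1, 4, 2, 5, 7, 4, 1, 4, 0, 4, 3, 1, 3, 1, 2], [([20, 2, 6, 20, 2, 2, 1, 3, 1, 2, 2, 5, 0, 4, 1, 5, 6, 5, 2, 2, 1, 4, 2, 1, 1, 20, 7, 3, 1, 1, 20], 99), ([20, 2, 6, 20, 2, 2, 1, 3, 1, 2, 2, 5, 0, 4, 1, 5, 6, 5, 2, 2, 1, 4, 2, 1, 1, 20, 7, 3], 88), ([20, 2, 6, 20, 2, 2, 1, 3, 1, 2, 2, 5, 0, 4, 1, 5, 6, 5, 2, 2, 1, 4, 2], 88)]),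
  ([1, 0], []),
  ([3, 2], []),
  ([5, 4], []),
  ([9, 8], []),
  ([11, 10], []),
  ([13, 12], []),
  ([15, 14], []),
  ([17, 16], []),
  ([19, 18], []),
  ([21, 20], [])])
  (by decide +kernel)
theorem semOk : D.semOk 10 R [([], []),
  ([20, 21], [])] = true := by decide +kernel
end H54.Ly
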